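import Groth.Agent.S11264
import Groth.Agent.Grass54.SFT
import Groth.Agent.E4O.DimField
import Groth.Agent.CAlg4.ReducedCurve

/-! The first fundamental theorem for the general linear group, in any characteristic. -/

set_option autoImplicit false

universe u

open MvPolynomial W4bk4grassmannian

namespace Groth.Agent.FFT31

variable (K : Type u) [Field K]

/-- Invariance under the general linear group. -/
def IsInv {m n q : ℕ} (f : PairRing K n m q) : Prop :=
  ∀ A : GL (Fin n) K, glTranslate K n m q A f = f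

variable {K}

theorem eval_glTranslate {m n q : ℕ} (A : GL (Fin n) K) (U : Matrix (Fin m) (Fin n) K) (W : Matrix (Fin n) (Fin q) K)
    (f : PairRing K n m q) :
    eval (Sum.elim (fun x => U x.1 x.2) fun x => W x.1 x.2) (glTranslate K n m q A f) =
      eval (Sum.elim (fun x => (U * ((A⁻¹ : GL (Fin n) K) : Matrix (Fin n) (Fin n) K)) x.1 x.2)
        fun x => ((A : Matrix (Fin n) (Fin n) K) * W) x.1 x.2) f := by
  have h : (aeval (Sum.elim (fun x => U x.1 x.2) fun x => W x.1 x.2)).comp (glTranslate K n m q A) =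
      aeval (Sum.elim (fun x => (U * ((A⁻¹ : GL (Fin n) K) : Matrix (Fin n) (Fin n) K)) x.1 x.2)
        fun x => ((A : Matrix (Fin n) (Fin n) K) * W) x.1 x.2) := by
    refine MvPolynomial.algHom_ext fun x => ?_
    rcases x with x | x <;> simp [glTranslate, Matrix.mul_apply]
  exact DFunLike.congr_fun h f

/-- The normalised form of an invariant on the open set of a nonzero minor. -/
theorem exists_mul_det_pow [Infinite K] {m n q : ℕ} {f : PairRing K n m q} (hf : IsInv K f)
    (ρ : Fin n → Fin m) (γ : Fin n → Fin q) :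
    ∃ (G : MvPolynomial (Fin m × Fin q) K) (N : ℕ),
      f * pairingMap K n m q ((genMatrix K m q).submatrix ρ γ).det ^ N = pairingMap K n m q G := by
  classical
  set Y := genMatrix K m q
  set d := (Y.submatrix ρ γ).det
  let S := Localization.Away d
  let u : S := IsLocalization.Away.invSelf d
  let ι : MvPolynomial (Fin m × Fin q) K →ₐ[K] S := IsScalarTower.toAlgHom K _ S
  let pt : (Fin m × Fin n) ⊕ (Fin n × Fin q) → S := Sum.elim
    (fun x => ι ((Y.submatrix id γ * (Y.submatrix ρ γ).adjugate) x.1 x.2) * u) (fun x => ι (Y (ρ x.1) x.2))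
  obtain ⟨N, G, hG⟩ := IsLocalization.Away.surj d (aeval pt f)
  refine ⟨G * d, N + 1, MvPolynomial.funext fun v => ?_⟩
  set U : Matrix (Fin m) (Fin n) K := Matrix.of fun i j => v (Sum.inl (i, j))
  set W : Matrix (Fin n) (Fin q) K := Matrix.of fun i j => v (Sum.inr (i, j))
  have hv : v = Sum.elim (fun x => U x.1 x.2) fun x => W x.1 x.2 := by
    funext x; rcases x with x | x <;> rfl
  rw [hv]
  simp only [map_mul, map_pow, Grass54.eval_pairing]
  set δ := eval (fun x => (U * W) x.1 x.2) d with hδ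
  by_cases hd0 : δ = 0
  · rw [hd0, zero_pow (Nat.succ_ne_zero N), mul_zero, mul_zero]
  -- the point
  let ev : MvPolynomial (Fin m × Fin q) K →+* K := eval fun x => (U * W) x.1 x.2
  have hY : Y.map ev = U * W := by ext i j; simp [Y, ev, genMatrix]
  have hsub : ((U * W).submatrix ρ γ) = U.submatrix ρ id * W.submatrix id γ := by
    rw [Matrix.submatrix_mul U W ρ id γ Function.bijective_id]
  have hδ' : δ = ((U * W).submatrix ρ γ).det := by
    rw [← hY]; exact RingHom.map_det ev _
  have hUI : (U.submatrix ρ id).det ≠ 0 := by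
    intro h
    rw [hδ', hsub, Matrix.det_mul, h, zero_mul] at hd0
    exact hd0 rfl
  let A : GL (Fin n) K := Matrix.GeneralLinearGroup.mkOfDetNeZero (U.submatrix ρ id) hUI
  have hA : (A : Matrix (Fin n) (Fin n) K) = U.submatrix ρ id := rfl
  let θ : S →+* K := IsLocalization.Away.lift d (g := ev) (isUnit_iff_ne_zero.2 hd0)
  have hθι : ∀ P, θ (ι P) = ev P := fun P => IsLocalization.Away.lift_eq d _ P
  have hθu : θ u = δ⁻¹ := by
    refine eq_inv_of_mul_eq_one_right ?_
    rw [hδ, show eval (fun x => (U * W) x.1 x.2) d = θ (ι d) from (hθι d).symm, ← map_mul]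
    exact (congrArg θ (IsLocalization.Away.mul_invSelf d)).trans (map_one θ)
  have hθK : ∀ c : K, θ (algebraMap K S c) = c := fun c => by
    rw [← ι.commutes c, hθι]; simp [ev]
  have hpt : θ (aeval pt f) = eval (Sum.elim
      (fun x => (U * ((A⁻¹ : GL (Fin n) K) : Matrix (Fin n) (Fin n) K)) x.1 x.2)
      fun x => ((A : Matrix (Fin n) (Fin n) K) * W) x.1 x.2) f := by
    have hval : (δ⁻¹ • ((U * W).submatrix id γ * ((U * W).submatrix ρ γ).adjugate)) =
        U * ((A⁻¹ : GL (Fin n) K) : Matrix (Fin n) (Fin n) K) := by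
      have hinv : ((A⁻¹ : GL (Fin n) K) : Matrix (Fin n) (Fin n) K) = (U.submatrix ρ id)⁻¹ := by
        rw [Matrix.coe_units_inv]; rfl
      have hWJ : IsUnit (W.submatrix id γ).det := isUnit_iff_ne_zero.2 fun h => hd0 (by
        rw [hδ', hsub, Matrix.det_mul, h, mul_zero])
      have h1 : δ⁻¹ • ((U * W).submatrix ρ γ).adjugate = ((U * W).submatrix ρ γ)⁻¹ := by
        rw [Matrix.inv_def, hδ', Ring.inverse_eq_inv']
      rw [← Matrix.mul_smul, h1, hsub, Matrix.mul_inv_rev, hinv,
        Matrix.submatrix_mul U W id id γ Function.bijective_id, Matrix.submatrix_id_id, Matrix.mul_assoc,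
        ← Matrix.mul_assoc (W.submatrix id γ), Matrix.mul_nonsing_inv _ hWJ, Matrix.one_mul]
    rw [aeval_def, MvPolynomial.eval₂_comp_left θ,
      show θ.comp (algebraMap K S) = RingHom.id K from RingHom.ext hθK]
    show eval₂ (RingHom.id K) (θ ∘ pt) f = eval₂ (RingHom.id K) _ f
    congr 1
    funext x
    rcases x with ⟨i, j⟩ | ⟨i, j⟩
    · show θ (ι _ * u) = _
      rw [map_mul, hθι, hθu, ← Matrix.map_apply (f := ev), Matrix.map_mul, ← RingHom.mapMatrix_apply ev (Y.submatrix ρ γ).adjugate,
        RingHom.map_adjugate, RingHom.mapMatrix_apply, ← Matrix.submatrix_map, ← Matrix.submatrix_map, hY, mul_comm]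
      exact congrFun (congrFun hval i) j
    · show θ (ι _) = _
      rw [hθι, ← Matrix.map_apply (f := ev), hY, Sum.elim_inr, hA,
        ← Matrix.submatrix_id_id ((U.submatrix ρ id) * W), Matrix.submatrix_mul _ W id id id Function.bijective_id,
        Matrix.submatrix_submatrix, Matrix.submatrix_id_id, Function.comp_id, Function.comp_id,
        Matrix.mul_apply, Matrix.mul_apply]
      rfl
  have h2 := congrArg θ hG
  rw [map_mul, map_pow, show θ (algebraMap _ S d) = δ from hθι d,
    show θ (algebraMap _ S G) = ev G from hθι G, hpt, ← eval_glTranslate A U W f, hf A] at h2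
  rw [show eval (fun x => (U * W) x.1 x.2) G = ev G from rfl, ← h2, pow_succ, mul_assoc]

/-- The theorem for matrices of size larger than the group. -/
theorem exists_eq_pairing [IsAlgClosed K] {m n q : ℕ} (hn : 0 < n) (hm : n < m) (hq : n < q)
    {f : PairRing K n m q} (hf : IsInv K f) : ∃ G, pairingMap K n m q G = f := by
  classical
  let P := MvPolynomial (Fin m × Fin q) K
  let I := CAlgX.minorIdeal (genMatrix K m q) (n + 1)
  let Q := P ⧸ I
  obtain ⟨hQd, hQn, -, hQdim⟩ := S11264.result K m q (n + 1) (by omega) (by omega) (by omega) hm hq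
  obtain ⟨hBd, -, -, hBdim⟩ := S11264.result K m q n (by omega) (by omega) hn hm.le hq.le
  have hker : ∀ G : P, pairingMap K n m q G = 0 ↔ Ideal.Quotient.mk I G = 0 := fun G => by
    rw [Ideal.Quotient.eq_zero_iff_mem, show I = _ from (Grass54.ker_pairing K m n q).symm]
    exact RingHom.mem_ker.symm
  let dd : (Fin n → Fin m) × (Fin n → Fin q) → P := fun p => ((genMatrix K m q).submatrix p.1 p.2).det
  choose G N hG using fun p : (Fin n → Fin m) × (Fin n → Fin q) => exists_mul_det_pow hf p.1 p.2
  let p₀ : (Fin n → Fin m) × (Fin n → Fin q) := (Fin.castLE hm.le, Fin.castLE hq.le)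
  have hd0 : pairingMap K n m q (dd p₀) ≠ 0 := fun h => by
    let U₀ : Matrix (Fin m) (Fin n) K := Matrix.of fun i j => if i.val = j.val then 1 else 0
    let W₀ : Matrix (Fin n) (Fin q) K := Matrix.of fun i j => if i.val = j.val then 1 else 0
    have h1 := congrArg (eval (Sum.elim (fun x => U₀ x.1 x.2) fun x => W₀ x.1 x.2)) h
    rw [Grass54.eval_pairing, map_zero, RingHom.map_det] at h1
    refine one_ne_zero (h1 ▸ ?_ : (1 : K) = 0)
    rw [← Matrix.det_one (R := K) (n := Fin n)]
    congr 1
    ext i j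
    simp [genMatrix, p₀, U₀, W₀, Matrix.mul_apply, Matrix.one_apply, ← Fin.ext_iff]
  have hA0 : Ideal.Quotient.mk I (dd p₀ ^ N p₀) ≠ 0 := fun h => by
    rw [← hker, map_pow] at h
    exact pow_ne_zero _ hd0 h
  have hdvd : Ideal.Quotient.mk I (dd p₀ ^ N p₀) ∣ Ideal.Quotient.mk I (G p₀) := by
    refine CAlg4.ReducedCurve.dvd_of_forall_height_one _ _ hA0 fun p _ hp _ => ?_
    obtain ⟨c, hc⟩ : ∃ c, Ideal.Quotient.mk I (dd c) ∉ p := by
      by_contra hall
      push Not at hall
      let J := CAlgX.minorIdeal (genMatrix K m q) n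
      have hJ : J ≤ p.comap (Ideal.Quotient.mk I) := by
        show CAlgX.minorIdeal _ _ ≤ _
        rw [CAlgX.minorIdeal, Ideal.span_le]
        rintro _ ⟨c, rfl⟩
        exact hall c
      have hsur : Function.Surjective (Ideal.Quotient.lift J ((Ideal.Quotient.mk p).comp (Ideal.Quotient.mk I))
          fun x hx => Ideal.Quotient.eq_zero_iff_mem.2 (hJ hx)) := fun z => by
        obtain ⟨z, rfl⟩ := Ideal.Quotient.mk_surjective z
        obtain ⟨z, rfl⟩ := Ideal.Quotient.mk_surjective z
        exact ⟨Ideal.Quotient.mk J z, rfl⟩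
      have h1 := ringKrullDim_le_of_surjective _ hsur
      rw [hBdim, E4O.ringKrullDim_eq_trdeg K, Nat.cast_le] at h1
      rw [E4O.ringKrullDim_eq_trdeg K, Nat.cast_inj] at hQdim
      have h2 := E4O.height_add_trdeg_eq K Q p
      rw [hp, Cardinal.ofENat_one, E4O.trdeg_eq_natCast K (Q ⧸ p), E4O.trdeg_eq_natCast K Q, ← Nat.cast_one,
        ← Nat.cast_add, Nat.cast_inj] at h2
      rw [hQdim] at h2
      obtain ⟨m', rfl⟩ : ∃ m', m = n + m' + 1 := ⟨m - n - 1, by omega⟩
      obtain ⟨q', rfl⟩ : ∃ q', q = n + q' + 1 := ⟨q - n - 1, by omega⟩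
      obtain ⟨n', rfl⟩ : ∃ n', n = n' + 1 := ⟨n - 1, by omega⟩
      have f1 : (n' + 1 + 1 - 1) * (n' + 1 + m' + 1 + (n' + 1 + q' + 1) - (n' + 1 + 1) + 1) =
          (n' + 1) * (n' + m' + q' + 3) := by congr 1; omega
      have f2 : (n' + 1 - 1) * (n' + 1 + m' + 1 + (n' + 1 + q' + 1) - (n' + 1) + 1) = n' * (n' + m' + q' + 4) := by
        congr 1; omega
      rw [f1] at h2
      rw [f2] at h1
      change Cardinal.toNat (Algebra.trdeg K (Q ⧸ p)) ≤ _ at h1
      have : (n' + 1) * (n' + m' + q' + 3) = n' * (n' + m' + q' + 4) + (m' + q' + 3) := by ring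
      omega
    have hu : IsUnit (algebraMap Q (Localization.AtPrime p) (Ideal.Quotient.mk I (dd c ^ N c))) := by
      rw [map_pow]
      exact IsLocalization.map_units (Localization.AtPrime p) (⟨_, pow_mem (show _ ∈ p.primeCompl from hc) (N c)⟩ : p.primeCompl)
    rw [← hu.dvd_mul_right, ← map_mul, ← map_mul]
    refine map_dvd _ ⟨Ideal.Quotient.mk I (G c), ?_⟩
    rw [← map_mul, Ideal.Quotient.eq]
    refine Ideal.Quotient.eq_zero_iff_mem.1 ((hker _).1 ?_)
    rw [map_sub, sub_eq_zero, map_mul, map_mul, map_pow, map_pow, ← hG, ← hG]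
    ring
  obtain ⟨C, hC⟩ := hdvd
  obtain ⟨C, rfl⟩ := Ideal.Quotient.mk_surjective C
  refine ⟨C, mul_left_injective₀ (pow_ne_zero (N p₀) hd0) ?_⟩
  show pairingMap K n m q C * _ = f * pairingMap K n m q (dd p₀) ^ N p₀
  rw [hG, ← map_pow, ← map_mul, ← sub_eq_zero, ← map_sub, hker, map_sub, sub_eq_zero, map_mul, hC, mul_comm]

/-- The first fundamental theorem for the general linear group. -/
theorem mem_range_of_isInv [IsAlgClosed K] {m n q : ℕ} {f : PairRing K n m q} (hf : IsInv K f) :
    f ∈ (pairingMap K n m q).range := by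
  classical
  rcases Nat.eq_zero_or_pos n with rfl | hn
  · have : IsEmpty ((Fin m × Fin 0) ⊕ (Fin 0 × Fin q)) := inferInstance
    obtain ⟨c, rfl⟩ := MvPolynomial.C_surjective _ f
    exact ⟨C c, by simp [pairingMap]⟩
  let ι : (Fin m × Fin n) ⊕ (Fin n × Fin q) → (Fin (m + (n + 1)) × Fin n) ⊕ (Fin n × Fin (q + (n + 1))) :=
    Sum.map (Prod.map (Fin.castAdd (n + 1)) id) (Prod.map id (Fin.castAdd (n + 1)))
  let ret : PairRing K n (m + (n + 1)) (q + (n + 1)) →ₐ[K] PairRing K n m q := aeval (Sum.elim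
    (fun x => Fin.addCases (fun i => X (Sum.inl (i, x.2))) (fun _ => 0) x.1)
    (fun x => Fin.addCases (fun j => X (Sum.inr (x.1, j))) (fun _ => 0) x.2))
  let retY : MvPolynomial (Fin (m + (n + 1)) × Fin (q + (n + 1))) K →ₐ[K] MvPolynomial (Fin m × Fin q) K :=
    aeval fun x => Fin.addCases (fun i => Fin.addCases (fun j => X (i, j)) (fun _ => 0) x.2) (fun _ => 0) x.1
  have hret : ∀ g : PairRing K n m q, ret (rename ι g) = g := fun g => by
    have h : ret.comp (rename ι) = AlgHom.id K _ := by
      refine MvPolynomial.algHom_ext fun x => ?_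
      rcases x with x | x <;> simp [ret, ι]
    exact DFunLike.congr_fun h g
  have hcomm : ∀ A : GL (Fin n) K, glTranslate K n _ _ A (rename ι f) = rename ι (glTranslate K n m q A f) := fun A => by
    have h : (glTranslate K n _ _ A).comp (rename ι) = (rename ι).comp (glTranslate K n m q A) := by
      refine MvPolynomial.algHom_ext fun x => ?_
      rcases x with x | x <;> simp [glTranslate, ι, map_sum]
    exact DFunLike.congr_fun h f
  obtain ⟨G, hG⟩ := exists_eq_pairing hn (by omega) (by omega)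
    (f := rename ι f) fun A => by rw [hcomm, hf A]
  have hpair : ret.comp (pairingMap K n _ _) = (pairingMap K n m q).comp retY := by
    refine MvPolynomial.algHom_ext fun x => ?_
    obtain ⟨i, j⟩ := x
    cases i using Fin.addCases <;> cases j using Fin.addCases <;> simp [ret, retY, pairingMap]
  exact ⟨retY G, by
    show pairingMap K n m q (retY G) = f
    rw [← AlgHom.comp_apply, ← hpair, AlgHom.comp_apply, hG, hret]⟩

theorem glTranslate_pairing {m n q : ℕ} (A : GL (Fin n) K) (G : MvPolynomial (Fin m × Fin q) K) [Infinite K] :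
    glTranslate K n m q A (pairingMap K n m q G) = pairingMap K n m q G := by
  refine MvPolynomial.funext fun v => ?_
  have hv : v = Sum.elim (fun x => (Matrix.of fun i j => v (Sum.inl (i, j))) x.1 x.2)
      fun x => (Matrix.of fun i j => v (Sum.inr (i, j))) x.1 x.2 := by
    funext x; rcases x with x | x <;> rfl
  rw [hv, eval_glTranslate, Grass54.eval_pairing, Grass54.eval_pairing, Matrix.mul_assoc,
    ← Matrix.mul_assoc _ (A : Matrix (Fin n) (Fin n) K), Units.inv_mul, Matrix.one_mul]

end Groth.Agent.FFT31
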