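import Groth.Agent.S11255
import Groth.Agent.S11259
import Groth.Agent.Grass54.Shuffle
import Groth.Agent.Grass54.Expansion
import Groth.Agent.E4O.DimField
import Groth.Agent.CAlg4.ReducedCurve

/-! The first fundamental theorem for the special linear group, in any characteristic. -/

set_option autoImplicit false

universe u

open MvPolynomial W4bk4grassmannian

namespace Groth.Agent.FFT31

variable {K : Type u} [Field K] {d n : ℕ}

theorem eval_rightTranslate (g : Matrix.SpecialLinearGroup (Fin d) K) (A : Matrix (Fin n) (Fin d) K)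
    (f : MatRing K d n) :
    eval (fun x => A x.1 x.2) (rightTranslate K d n g f) = eval (fun x => (A * (g : Matrix (Fin d) (Fin d) K)) x.1 x.2) f := by
  have h : (aeval fun x : Fin n × Fin d => A x.1 x.2).comp (rightTranslate K d n g) =
      aeval fun x : Fin n × Fin d => (A * (g : Matrix (Fin d) (Fin d) K)) x.1 x.2 := by
    refine MvPolynomial.algHom_ext fun x => ?_
    simp [rightTranslate, Matrix.mul_apply]
  exact DFunLike.congr_fun h f

theorem eval_minor (A : Matrix (Fin n) (Fin d) K) (a : Fin d → Fin n) :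
    eval (fun x => A x.1 x.2) (minor K d n a) = (A.submatrix a id).det := by
  rw [minor, RingHom.map_det]
  congr 1
  ext i j
  simp

theorem eval_pluckerMap (A : Matrix (Fin n) (Fin d) K) (G : PlRing K d n) :
    eval (fun x => A x.1 x.2) (pluckerMap K d n G) = evalMinors K d n A G := by
  have h : (aeval fun x : Fin n × Fin d => A x.1 x.2).comp (pluckerMap K d n) = evalMinors K d n A := by
    refine MvPolynomial.algHom_ext fun θ => ?_
    simp only [pluckerMap, evalMinors, AlgHom.comp_apply, aeval_X]
    exact eval_minor A θ.1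
  exact DFunLike.congr_fun h G

/-- Cramer's rule in the form needed. -/
theorem mul_adjugate_apply (A : Matrix (Fin n) (Fin d) K) (θ : Fin d → Fin n) (i : Fin n) (j : Fin d) :
    (A * (A.submatrix θ id).adjugate) i j = (A.submatrix (Function.update θ j i) id).det := by
  have h : A.submatrix (Function.update θ j i) id = (A.submatrix θ id).updateRow j (A i) := by
    ext a b
    by_cases e : a = j
    · subst e; simp
    · simp [e]
  rw [h, ← Matrix.cramer_transpose_apply, Matrix.cramer_eq_adjugate_mulVec, ← Matrix.adjugate_transpose,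
    Matrix.mulVec_transpose]
  rfl

/-- The normalised form of an invariant on the open set of a nonzero minor. -/
theorem exists_mul_minor_pow [Infinite K] (j₀ : Fin d) {f : MatRing K d n}
    (hf : ∀ g : Matrix.SpecialLinearGroup (Fin d) K, rightTranslate K d n g f = f) (θ : Idx d n) :
    ∃ (G : PlRing K d n) (N : ℕ), f * pluckerMap K d n (X θ) ^ N = pluckerMap K d n G := by
  classical
  let S := Localization.Away (X θ : PlRing K d n)
  let u : S := IsLocalization.Away.invSelf (X θ : PlRing K d n)
  let ι : PlRing K d n →ₐ[K] S := IsScalarTower.toAlgHom K _ S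
  let pt : Fin n × Fin d → S := fun x =>
    ι (coord K d n (Function.update θ.1 x.2 x.1) * if x.2 = j₀ then X θ else 1) * u
  obtain ⟨N, G, hG⟩ := IsLocalization.Away.surj (X θ : PlRing K d n) (aeval pt f)
  refine ⟨G * X θ, N + 1, MvPolynomial.funext fun v => ?_⟩
  set A : Matrix (Fin n) (Fin d) K := Matrix.of fun i j => v (i, j)
  rw [show v = fun x => A x.1 x.2 from rfl]
  simp only [map_mul, map_pow, eval_pluckerMap]
  set ev : PlRing K d n →ₐ[K] K := evalMinors K d n A
  have hev : ∀ a, ev (coord K d n a) = (A.submatrix a id).det := fun a => Grass54.aeval_coord A a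
  set δ := ev (X θ) with hδ
  by_cases hd0 : δ = 0
  · rw [hd0, zero_pow (Nat.succ_ne_zero N), mul_zero, mul_zero]
  have hδ' : δ = (A.submatrix θ.1 id).det := aeval_X _ _
  let Dv : Fin d → K := Function.update (fun _ => 1) j₀ δ
  have hD : (Matrix.diagonal Dv).det = δ := by
    rw [Matrix.det_diagonal, Finset.prod_update_of_mem (Finset.mem_univ _)]
    simp
  let g : Matrix.SpecialLinearGroup (Fin d) K :=
    ⟨(A.submatrix θ.1 id)⁻¹ * Matrix.diagonal Dv, by
      rw [Matrix.det_mul, hD, Matrix.det_nonsing_inv, Ring.inverse_eq_inv', ← hδ', inv_mul_cancel₀ hd0]⟩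
  let θS : S →+* K := IsLocalization.Away.lift (X θ : PlRing K d n) (g := ev.toRingHom) (isUnit_iff_ne_zero.2 hd0)
  have hθι : ∀ P, θS (ι P) = ev P := fun P => IsLocalization.Away.lift_eq (X θ : PlRing K d n) _ P
  have hθu : θS u = δ⁻¹ := by
    refine eq_inv_of_mul_eq_one_right ?_
    rw [hδ, ← hθι (X θ), ← map_mul]
    exact (congrArg θS (IsLocalization.Away.mul_invSelf (X θ : PlRing K d n))).trans (map_one θS)
  have hθK : ∀ c : K, θS (algebraMap K S c) = c := fun c => by
    rw [← ι.commutes c, hθι, ev.commutes]; rfl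
  have hpt : θS (aeval pt f) = eval (fun x => (A * (g : Matrix (Fin d) (Fin d) K)) x.1 x.2) f := by
    rw [aeval_def, MvPolynomial.eval₂_comp_left θS,
      show θS.comp (algebraMap K S) = RingHom.id K from RingHom.ext hθK]
    show eval₂ (RingHom.id K) (θS ∘ pt) f = eval₂ (RingHom.id K) _ f
    congr 1
    funext ⟨i, j⟩
    show θS (ι _ * u) = (A * ((A.submatrix θ.1 id)⁻¹ * Matrix.diagonal Dv)) i j
    rw [map_mul, hθι, hθu, map_mul, hev, ← mul_adjugate_apply, ← Matrix.mul_assoc, Matrix.mul_diagonal, Matrix.inv_def,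
      Ring.inverse_eq_inv', Matrix.mul_smul, Matrix.smul_apply, smul_eq_mul, ← hδ']
    have e : ev (if j = j₀ then X θ else 1) = Dv j := by
      by_cases e : j = j₀
      · subst e; simp [Dv, hδ]
      · simp [Dv, e]
    rw [e]
    ring
  have h2 := congrArg θS hG
  rw [map_mul, map_pow, show θS (algebraMap _ S (X θ)) = δ from hθι _,
    show θS (algebraMap _ S G) = ev G from hθι G, hpt, ← eval_rightTranslate g A f, hf g] at h2
  rw [← h2, pow_succ, mul_assoc]

theorem pluckerMap_eq_zero_iff [Infinite K] (hdn : d < n) (G : PlRing K d n) :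
    pluckerMap K d n G = 0 ↔ G ∈ schubertVanishing K d n (Grass54.topIdx hdn) := by
  simp only [schubertVanishing, Submodule.mem_iInf, RingHom.mem_ker, AlgHom.toRingHom_eq_coe, RingHom.coe_coe]
  constructor
  · intro h A _
    rw [← eval_pluckerMap, h, map_zero]
  · intro h
    refine MvPolynomial.funext fun v => ?_
    rw [show v = fun x => (Matrix.of fun i j => v (i, j)) x.1 x.2 from rfl, eval_pluckerMap, map_zero]
    exact h _ fun φ hφ => absurd (Grass54.le_topIdx hdn φ) hφ

/-- The first fundamental theorem for the special linear group. -/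
theorem mem_adjoin_of_isInv [IsAlgClosed K] (hd : 0 < d) (hdn : d < n) {f : MatRing K d n}
    (hf : ∀ g : Matrix.SpecialLinearGroup (Fin d) K, rightTranslate K d n g f = f) :
    f ∈ (pluckerMap K d n).range := by
  classical
  let top := Grass54.topIdx hdn
  let I := schubertVanishing K d n top
  let Q := PlRing K d n ⧸ I
  obtain ⟨hQd, hQn⟩ := S11259.result K d n hd hdn top
  have hQdim := S11255.result K d n hd hdn top
  choose G N hG using fun θ : Idx d n => exists_mul_minor_pow ⟨0, hd⟩ hf θ
  have hker : ∀ P, pluckerMap K d n P = 0 ↔ Ideal.Quotient.mk I P = 0 := fun P => by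
    rw [Ideal.Quotient.eq_zero_iff_mem]; exact pluckerMap_eq_zero_iff hdn P
  let θ₀ : Idx d n := ⟨Fin.castLE hdn.le, fun a b h => h⟩
  have hd0 : pluckerMap K d n (X θ₀) ≠ 0 := fun h => by
    let A₀ : Matrix (Fin n) (Fin d) K := Matrix.of fun i j => if i.val = j.val then 1 else 0
    have h1 := congrArg (eval fun x => A₀ x.1 x.2) h
    rw [eval_pluckerMap, map_zero, evalMinors, aeval_X] at h1
    refine one_ne_zero (h1 ▸ ?_ : (1 : K) = 0)
    rw [← Matrix.det_one (R := K) (n := Fin d)]
    congr 1
    ext i j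
    simp [A₀, θ₀, Matrix.one_apply, ← Fin.ext_iff]
  have hA0 : Ideal.Quotient.mk I (X θ₀ ^ N θ₀) ≠ 0 := fun h => by
    rw [← hker, map_pow] at h
    exact pow_ne_zero _ hd0 h
  have hdvd : Ideal.Quotient.mk I (X θ₀ ^ N θ₀) ∣ Ideal.Quotient.mk I (G θ₀) := by
    refine CAlg4.ReducedCurve.dvd_of_forall_height_one _ _ hA0 fun p _ hp _ => ?_
    obtain ⟨c, hc⟩ : ∃ c, Ideal.Quotient.mk I (X c) ∉ p := by
      by_contra hall
      push Not at hall
      have hsur : Function.Surjective (algebraMap K (Q ⧸ p)) := fun z => by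
        obtain ⟨z, rfl⟩ := Ideal.Quotient.mk_surjective z
        obtain ⟨z, rfl⟩ := Ideal.Quotient.mk_surjective z
        induction z using MvPolynomial.induction_on with
        | C c => exact ⟨c, rfl⟩
        | add a b ha hb =>
          obtain ⟨x, hx⟩ := ha
          obtain ⟨y, hy⟩ := hb
          exact ⟨x + y, by rw [map_add, hx, hy, map_add, map_add]⟩
        | mul_X a i _ =>
          exact ⟨0, by rw [map_zero]; exact (Ideal.Quotient.eq_zero_iff_mem.2
            (by rw [map_mul]; exact Ideal.mul_mem_left _ _ (hall i))).symm⟩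
      have : Module.Finite K (Q ⧸ p) := Module.Finite.of_surjective (Algebra.linearMap K (Q ⧸ p)) hsur
      have h2 := E4O.height_add_trdeg_eq K Q p
      rw [hp, Cardinal.ofENat_one, trdeg_eq_zero (R := K) (A := Q ⧸ p), add_zero,
        E4O.trdeg_eq_natCast K Q, ← Nat.cast_one, Nat.cast_inj] at h2
      rw [E4O.ringKrullDim_eq_trdeg K, Nat.cast_inj] at hQdim
      change Cardinal.toNat (Algebra.trdeg K Q) = _ at hQdim
      have hpos : 0 < codeg top :=
        Finset.sum_pos (fun t _ => by show 0 < n - d + t.val - t.val; omega) ⟨⟨0, hd⟩, Finset.mem_univ _⟩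
      omega
    have hu : IsUnit (algebraMap Q (Localization.AtPrime p) (Ideal.Quotient.mk I (X c ^ N c))) := by
      rw [map_pow]
      exact IsLocalization.map_units (Localization.AtPrime p) (⟨_, pow_mem (show _ ∈ p.primeCompl from hc) (N c)⟩ : p.primeCompl)
    rw [← hu.dvd_mul_right, ← map_mul, ← map_mul]
    refine map_dvd _ ⟨Ideal.Quotient.mk I (G c), ?_⟩
    rw [← map_mul, Ideal.Quotient.eq]
    refine Ideal.Quotient.eq_zero_iff_mem.1 ((hker _).1 ?_)
    rw [map_sub, sub_eq_zero, map_mul, map_mul, map_pow, map_pow, ← hG, ← hG]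
    ring
  obtain ⟨C', hC⟩ := hdvd
  obtain ⟨C', rfl⟩ := Ideal.Quotient.mk_surjective C'
  refine ⟨C', mul_left_injective₀ (pow_ne_zero (N θ₀) hd0) ?_⟩
  show pluckerMap K d n C' * _ = f * pluckerMap K d n (X θ₀) ^ N θ₀
  rw [hG, ← map_pow, ← map_mul, ← sub_eq_zero, ← map_sub, hker, map_sub, sub_eq_zero, map_mul, hC, mul_comm]

theorem rightTranslate_pluckerMap [Infinite K] (g : Matrix.SpecialLinearGroup (Fin d) K) (G : PlRing K d n) :
    rightTranslate K d n g (pluckerMap K d n G) = pluckerMap K d n G := by
  refine MvPolynomial.funext fun v => ?_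
  rw [show v = fun x => (Matrix.of fun i j => v (i, j)) x.1 x.2 from rfl, eval_rightTranslate, eval_pluckerMap,
    eval_pluckerMap]
  have h : evalMinors K d n (Matrix.of (fun i j => v (i, j)) * (g : Matrix (Fin d) (Fin d) K)) =
      evalMinors K d n (Matrix.of fun i j => v (i, j)) := by
    refine MvPolynomial.algHom_ext fun θ => ?_
    simp only [evalMinors, aeval_X]
    rw [Matrix.submatrix_mul _ _ θ.1 id id Function.bijective_id, Matrix.submatrix_id_id, Matrix.det_mul, g.2, mul_one]
  exact DFunLike.congr_fun h G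

end Groth.Agent.FFT31
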